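import Groth.Agent.AmpleVan.Criterion
import Groth.Agent.AmpleVan.Uniform
import Groth.Agent.QCoh.DevissageP
import Groth.Agent.KFlatLib.Scheme.ProjLocFree
import Groth.Agent.SheafHomX.Coherent
import Groth.Agent.QCoh.AffineCohom

/-!
# Eventual vanishing of `H¹` of twists as a property of coherent modules
-/

set_option linter.style.haveILetI false
set_option backward.isDefEq.respectTransparency false
set_option backward.isDefEq.respectTransparency.types false

universe u

open CategoryTheory CategoryTheory.Limits AlgebraicGeometry TopologicalSpace Opposite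
open Groth.Agent.H23.PicMul

namespace Groth.Agent.AmpleDev

open Groth.Agent

variable {X Y : Scheme.{u}}

/-- `H¹(X, M ⊗ L^n)` vanishes for large `n`. -/
def Van (L M : X.Modules) : Prop :=
  ∃ n₀ : ℕ, ∀ n, n₀ ≤ n → Subsingleton (Coh.HH X (CohB1.tensorMod M (CohB1.tensorPow L n)) 1)

theorem Van.of_iso {L M N : X.Modules} (e : M ≅ N) : Van L M → Van L N := fun ⟨n₀, h⟩ =>
  ⟨n₀, fun n hn => QCoh.subsingleton_HH_of_iso ((AmpleVan.tw (CohB1.tensorPow L n)).mapIso e) 1 (h n hn)⟩

theorem Van.zero {L M : X.Modules} (hL : PicF.IsInvertible L) (hM : IsZero M) : Van L M := ⟨0, fun n _ => by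
  haveI := AmpleVan.isEquivalence_tw (InvX.isInvertible_tensorPow hL n)
  haveI : (AmpleVan.tw (CohB1.tensorPow L n)).Additive := Functor.additive_of_preserves_binary_products _
  have h0 : IsZero (CohB1.tensorMod M (CohB1.tensorPow L n)) :=
    (AmpleVan.tw (CohB1.tensorPow L n)).map_isZero hM
  exact PnCoh.Finite.subsingleton_HH_of_decomposition (ι := PEmpty.{1}) (fun j => j.elim) (fun j => j.elim)
    (fun j => j.elim) (by simpa using ((IsZero.iff_id_eq_zero _).1 h0).symm) 1 fun j => j.elim⟩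

theorem Van.ext {L : X.Modules} (hL : PicF.IsInvertible L) {S : ShortComplex X.Modules} (hS : S.ShortExact) :
    Van L S.X₁ → Van L S.X₃ → Van L S.X₂ := fun ⟨a, ha⟩ ⟨b, hb⟩ => ⟨max a b, fun n hn => by
  haveI := AmpleVan.isEquivalence_tw (InvX.isInvertible_tensorPow hL n)
  exact QCoh.subsingleton_HH_X₂ (hS.map_of_exact (AmpleVan.tw (CohB1.tensorPow L n))) 1
    (ha n ((le_max_left _ _).trans hn)) (hb n ((le_max_right _ _).trans hn))⟩

theorem Van.retract {L M N : X.Modules} (s : M ⟶ N) (r : N ⟶ M) (h : s ≫ r = 𝟙 M) :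
    Van L N → Van L M := fun ⟨n₀, hn₀⟩ => ⟨n₀, fun n hn =>
  PnCoh.Finite.subsingleton_HH_of_decomposition (ι := PUnit.{1})
    (fun _ => CohB1.tensorMod N (CohB1.tensorPow L n)) (fun _ => (AmpleVan.tw (CohB1.tensorPow L n)).map s)
    (fun _ => (AmpleVan.tw (CohB1.tensorPow L n)).map r) (by
      simp only [Finset.univ_unique, Finset.sum_singleton, ← Functor.map_comp, h]
      exact (AmpleVan.tw (CohB1.tensorPow L n)).map_id M) 1 fun _ => hn₀ n hn⟩

theorem isAmple_of_van [IsNoetherian X] {L : X.Modules} (hL : PicF.IsInvertible L)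
    (h : ∀ M : X.Modules, Coh.IsCoh M → Van L M) : CohB1.IsAmple L :=
  AmpleVan.isAmple_of_HH_one hL fun Z _ => by
    obtain ⟨n₀, hn⟩ := h _ (QCoh.isCoh_of_mono (QCoh.vanIdeal Z).ι QCoh.isCoh_structureModule'
      (QCoh.isQCoh_vanIdeal Z))
    exact ⟨n₀, hn (n₀ + 1) (Nat.le_succ _)⟩

theorem van_of_isAmple (A : Type u) [CommRing A] [IsNoetherianRing A] [X.Over (Spec (CommRingCat.of A))]
    [IsProper (X ↘ Spec (CommRingCat.of A))] {L : X.Modules} (hL : CohB1.IsAmple L) {M : X.Modules}
    (hM : Coh.IsCoh M) : Van L M := by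
  obtain ⟨d₀, hd⟩ := AmpleVan.exists_vanishing (A := A) hL hM
  exact ⟨d₀, fun n hn => hd n hn 0⟩

/-- The projection formula for invertible modules. -/
theorem push_tensor_iso (f : X ⟶ Y) {N : Y.Modules} (hN : PicF.IsInvertible N) (G : X.Modules) :
    Nonempty (CohB1.tensorMod ((Coh.push f).obj G) N ≅
      (Coh.push f).obj (CohB1.tensorMod G ((Scheme.Modules.pullback f).obj N))) := by
  haveI := SpObjSS.enoughInjectives_of_hasInjectiveResolutions (C := X.Modules)
  haveI := QCoh.preservesFiniteLimits_push f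
  obtain ⟨e⟩ := KFlatLib.nonempty_rpush_tensor_finLocFree f G N (H23.PullPush.isFinLocFree_of_isInvertible hN) 0
  obtain ⟨e₁⟩ : Nonempty (CohB1.tensorMod ((Coh.push f).obj G) N ≅
      CohB1.tensorMod N ((Coh.Rpush f 0).obj G)) := cl_eq_iff.1 (by
    rw [cl_tensor, cl_tensor, mul_comm,
      cl_eq_iff.2 ⟨((Scheme.Modules.pushforward f).rightDerivedZeroIsoSelf.app G).symm⟩])
  obtain ⟨e₂⟩ : Nonempty (CohB1.tensorMod ((Scheme.Modules.pullback f).obj N) G ≅
      CohB1.tensorMod G ((Scheme.Modules.pullback f).obj N)) := cl_eq_iff.1 (by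
    rw [cl_tensor, cl_tensor, mul_comm])
  exact ⟨e₁ ≪≫ e ≪≫ (Scheme.Modules.pushforward f).rightDerivedZeroIsoSelf.app _ ≪≫
    (Scheme.Modules.pushforward f).mapIso e₂⟩

theorem van_push_iff (f : X ⟶ Y) [IsAffineHom f] {L : Y.Modules} (hL : PicF.IsInvertible L) {G : X.Modules}
    (hG : Coh.IsQCoh G) : Van L ((Coh.push f).obj G) ↔ Van ((Scheme.Modules.pullback f).obj L) G := by
  refine exists_congr fun n₀ => forall_congr' fun n => imp_congr_right fun _ => ?_
  have hN : PicF.IsInvertible (CohB1.tensorPow L n) := InvX.isInvertible_tensorPow hL n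
  obtain ⟨e⟩ := push_tensor_iso f hN G
  obtain ⟨φ⟩ : Nonempty (CohB1.tensorMod G ((Scheme.Modules.pullback f).obj (CohB1.tensorPow L n)) ≅
      CohB1.tensorMod G (CohB1.tensorPow ((Scheme.Modules.pullback f).obj L) n)) := cl_eq_iff.1 (by
    rw [cl_tensor, cl_tensor, cl_tensorPow]
    show _ * PicF.pullCl f (PicF.cl (CohB1.tensorPow L n)) = _ * PicF.pullCl f (PicF.cl L) ^ n
    rw [cl_tensorPow, pullCl_pow])
  obtain ⟨a⟩ := QCoh.HH_push_of_isAffineHom f (KFlatLib.isQCoh_tensor hG
    (ProjUPX.isQCoh_of_isInvertible (PicClLib.isInvertible_pullback f hN))) 1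
  exact ⟨fun h => QCoh.subsingleton_HH_of_iso φ 1
      (a.toEquiv.subsingleton_congr.2 (QCoh.subsingleton_HH_of_iso e 1 h)),
    fun h => QCoh.subsingleton_HH_of_iso e.symm 1
      (a.toEquiv.subsingleton_congr.1 (QCoh.subsingleton_HH_of_iso φ.symm 1 h))⟩

/-- Ampleness is tested on the integral closed subschemes. -/
theorem isAmple_of_integral (A : Type u) [CommRing A] [IsNoetherianRing A] [X.Over (Spec (CommRingCat.of A))]
    [IsProper (X ↘ Spec (CommRingCat.of A))] {L : X.Modules} (hL : PicF.IsInvertible L)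
    (h : ∀ (Z : Scheme.{u}) (i : Z ⟶ X), IsClosedImmersion i → IsIntegral Z →
      CohB1.IsAmple ((Scheme.Modules.pullback i).obj L)) : CohB1.IsAmple L := by
  haveI : IsLocallyNoetherian X := LocallyOfFiniteType.isLocallyNoetherian (X ↘ Spec (CommRingCat.of A))
  haveI : CompactSpace X := AmpleVan.compactSpace_of_proper (A := A)
  haveI : IsNoetherian X := { __ := ‹IsLocallyNoetherian X›, __ := ‹CompactSpace X› }
  refine isAmple_of_van hL fun M hM => ?_
  induction QCoh.filt_of_isCoh hM with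
  | @zero N h0 => exact Van.zero hL h0
  | @step N M' φ _ _ hNc hMc hex ih =>
    obtain ⟨Z, i, hi, hZ, I, ι, hι, hI, hI0, ⟨e⟩⟩ := hex
    haveI := hi; haveI := hι
    refine Van.ext hL (S := ShortComplex.mk φ (cokernel.π φ) (cokernel.condition φ))
      (.mk' (ShortComplex.exact_of_g_is_cokernel _ (cokernelIsCokernel φ)) ‹_› inferInstance)
      (ih hNc) (Van.of_iso e.symm ((van_push_iff i hL hI).2 ?_))
    letI : Z.Over (Spec (CommRingCat.of A)) := ⟨i ≫ (X ↘ Spec (CommRingCat.of A))⟩
    haveI : IsProper (Z ↘ Spec (CommRingCat.of A)) :=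
      inferInstanceAs (IsProper (i ≫ (X ↘ Spec (CommRingCat.of A))))
    haveI : IsLocallyNoetherian Z := LocallyOfFiniteType.isLocallyNoetherian i
    exact van_of_isAmple A (h Z i hi hZ) (QCoh.isCoh_of_mono ι QCoh.isCoh_structureModule' hI)

/-- Ampleness is inherited along a finite morphism of proper schemes. -/
theorem isAmple_pullback_finite (A : Type u) [CommRing A] [IsNoetherianRing A] [X.Over (Spec (CommRingCat.of A))]
    [IsProper (X ↘ Spec (CommRingCat.of A))] (f : Y ⟶ X) [IsFinite f] {L : X.Modules} (hL : CohB1.IsAmple L) :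
    CohB1.IsAmple ((Scheme.Modules.pullback f).obj L) := by
  haveI : IsLocallyNoetherian X := LocallyOfFiniteType.isLocallyNoetherian (X ↘ Spec (CommRingCat.of A))
  haveI : CompactSpace X := AmpleVan.compactSpace_of_proper (A := A)
  haveI : IsNoetherian X := { __ := ‹IsLocallyNoetherian X›, __ := ‹CompactSpace X› }
  haveI : IsNoetherian Y :=
    { __ := LocallyOfFiniteType.isLocallyNoetherian f
      __ := QuasiCompact.compactSpace_of_compactSpace f }
  exact isAmple_of_van (PicClLib.isInvertible_pullback f hL.1) fun G hG =>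
    (van_push_iff f hL.1 hG.1).1 (van_of_isAmple A hL (QCoh.isCoh_pushforward_finite f hG))

end Groth.Agent.AmpleDev
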