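import Groth.Agent.AmpleDev.Finite
import Groth.Agent.AmpleX.RelAffine

/-!
# Ampleness on a reduced scheme factoring through a closed subscheme
-/

set_option linter.style.haveILetI false
set_option backward.isDefEq.respectTransparency false
set_option backward.isDefEq.respectTransparency.types false

universe u

open CategoryTheory CategoryTheory.Limits AlgebraicGeometry TopologicalSpace Opposite
open Groth.Agent.H23.PicMul

namespace Groth.Agent.AmpleDev

open Groth.Agent

variable {X Z W : Scheme.{u}}

theorem isAmple_pullback_of_range_subset (A : Type u) [CommRing A] [IsNoetherianRing A]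
    [X.Over (Spec (CommRingCat.of A))] [IsProper (X ↘ Spec (CommRingCat.of A))] (i : Z ⟶ X)
    [IsClosedImmersion i] [IsReduced Z] (j : W ⟶ X) [IsClosedImmersion j] (hr : Set.range i ⊆ Set.range j)
    {L : X.Modules} (h : CohB1.IsAmple ((Scheme.Modules.pullback j).obj L)) :
    CohB1.IsAmple ((Scheme.Modules.pullback i).obj L) := by
  obtain ⟨g, rfl⟩ := H23.RedSub.exists_lift_closed i j hr
  haveI : IsClosedImmersion g := IsClosedImmersion.of_comp g j
  letI : W.Over (Spec (CommRingCat.of A)) := ⟨j ≫ (X ↘ Spec (CommRingCat.of A))⟩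
  haveI : IsProper (W ↘ Spec (CommRingCat.of A)) :=
    inferInstanceAs (IsProper (j ≫ (X ↘ Spec (CommRingCat.of A))))
  exact AmpleX.isAmple_of_iso ((Scheme.Modules.pullbackComp g j).app L) (isAmple_pullback_finite A g h)

/-- Ampleness descends along finite surjections of proper schemes. -/
theorem isAmple_of_pullback_finite (A : Type u) [CommRing A] [IsNoetherianRing A]
    [X.Over (Spec (CommRingCat.of A))] [IsProper (X ↘ Spec (CommRingCat.of A))] {Y : Scheme.{u}} (f : Y ⟶ X)
    [IsFinite f] [Surjective f] {L : X.Modules} (hL : PicF.IsInvertible L)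
    (h : CohB1.IsAmple ((Scheme.Modules.pullback f).obj L)) : CohB1.IsAmple L := by
  haveI : IsLocallyNoetherian X := LocallyOfFiniteType.isLocallyNoetherian (X ↘ Spec (CommRingCat.of A))
  haveI : CompactSpace X := AmpleVan.compactSpace_of_proper (A := A)
  haveI : IsNoetherian X := { __ := ‹IsLocallyNoetherian X›, __ := ‹CompactSpace X› }
  letI : Y.Over (Spec (CommRingCat.of A)) := ⟨f ≫ (X ↘ Spec (CommRingCat.of A))⟩
  haveI : IsProper (Y ↘ Spec (CommRingCat.of A)) :=
    inferInstanceAs (IsProper (f ≫ (X ↘ Spec (CommRingCat.of A))))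
  exact isAmple_of_van hL fun M hM => devissage_finite f (Van L) (fun _ _ ⟨e⟩ => Van.of_iso e)
    (fun _ => Van.zero hL) (fun _ hS => Van.ext hL hS) (fun s r hsr => Van.retract s r hsr)
    (fun G hG => (van_push_iff f hL hG.1).2 (van_of_isAmple A h hG)) hM

end Groth.Agent.AmpleDev
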