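import Groth.Agent.AmpleDev.Curve
import Groth.Agent.AmpleDev.Factor
import Groth.Agent.Lib.AVAmple
import Groth.Agent.AmpleX.SemiAmple
import Groth.Agent.PnCoh.PushNat
import Groth.Agent.InvX.GenEpi

/-!
# Curves inside a scheme, and ampleness of generated modules
-/

set_option linter.style.haveILetI false
set_option backward.isDefEq.respectTransparency false
set_option backward.isDefEq.respectTransparency.types false

universe u

open CategoryTheory CategoryTheory.Limits AlgebraicGeometry TopologicalSpace Opposite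
open Groth.Agent.H23.PicMul

namespace Groth.Agent.AmpleDev

open Groth.Agent

variable {X Z : Scheme.{u}}

theorem dim_eq_one_of_closedImmersion (i : Z ⟶ X) [IsClosedImmersion i] {T : Set X} (hr : Set.range i = T) :
    topologicalKrullDim Z = topologicalKrullDim T := by
  rw [← hr]
  exact i.isClosedEmbedding.isEmbedding.toHomeomorph.isHomeomorph.topologicalKrullDim_eq

theorem topologicalKrullDim_one_of_minimal (T : Set X) (hT : IsClosed T) (hirr : IsIrreducible T)
    [CompactSpace X] (hne : ¬ T.Subsingleton)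
    (hmin : ∀ S : Set X, IsClosed S → IsIrreducible S → S ⊆ T → S ≠ T → S.Subsingleton) :
    topologicalKrullDim T = 1 := by
  have himg : ∀ Z : IrreducibleCloseds T, IsClosed (Subtype.val '' (Z : Set T) : Set X) ∧
      IsIrreducible (Subtype.val '' (Z : Set T) : Set X) := fun Z =>
    ⟨hT.isClosedEmbedding_subtypeVal.isClosedMap _ Z.3, Z.2.image _ continuous_subtype_val.continuousOn⟩
  have hsmall : ∀ Z : IrreducibleCloseds T, (Z : Set T) ≠ Set.univ → (Z : Set T).Subsingleton := fun Z hZ a ha b hb => by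
    have h := hmin _ (himg Z).1 (himg Z).2 (by rintro _ ⟨z, -, rfl⟩; exact z.2) (fun he => hZ (Set.eq_univ_of_forall fun t => by
      obtain ⟨t', ht', he'⟩ := he.ge t.2
      rwa [← Subtype.ext he']))
    exact Subtype.ext (h ⟨a, ha, rfl⟩ ⟨b, hb, rfl⟩)
  refine le_antisymm (Order.krullDim_le_one_iff.2 fun Z => ?_) ?_
  · by_cases hZ : (Z : Set T) = Set.univ
    · exact Or.inr fun W _ => fun x _ => hZ.ge (Set.mem_univ x)
    · exact Or.inl fun W hW x hx => by
        obtain ⟨y, hy⟩ := W.2.nonempty
        rwa [hsmall Z hZ hx (hW hy)]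
  · obtain ⟨p, hp, hpc⟩ := hT.exists_closed_singleton hirr.nonempty
    haveI : IrreducibleSpace T := Subtype.irreducibleSpace hirr
    let c : LTSeries (IrreducibleCloseds T) :=
      ⟨1, ![⟨{⟨p, hp⟩}, isIrreducible_singleton, by
          have : ({⟨p, hp⟩} : Set T) = Subtype.val ⁻¹' {p} := by ext; simp [Subtype.ext_iff]
          rw [this]; exact hpc.preimage continuous_subtype_val⟩,
        ⟨Set.univ, IrreducibleSpace.isIrreducible_univ T, isClosed_univ⟩], fun j => by
          fin_cases j
          refine lt_of_le_of_ne (show _ ≤ _ from Set.subset_univ _) fun he => hne fun a ha b hb => ?_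
          have h : ({⟨p, hp⟩} : Set T) = Set.univ := by
            simpa using he
          have h1 : (⟨a, ha⟩ : T) = ⟨p, hp⟩ := h.ge (Set.mem_univ _)
          have h2 : (⟨b, hb⟩ : T) = ⟨p, hp⟩ := h.ge (Set.mem_univ _)
          exact congrArg Subtype.val (h1.trans h2.symm)⟩
    exact le_trans (by rfl) (Order.LTSeries.length_le_krullDim c)

/-- A closed irreducible set which is not a point contains a curve. -/
theorem exists_curve [IsNoetherian X] (S : Set X) (hS : IsClosed S) (hirr : IsIrreducible S)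
    (hne : ¬ S.Subsingleton) :
    ∃ C : X.IdealSheafData, IsIntegral C.subscheme ∧ topologicalKrullDim (C.support : Set X) = 1 ∧
      (C.support : Set X) ⊆ S := by
  suffices h : ∀ S : Closeds X, IsIrreducible (S : Set X) → ¬ (S : Set X).Subsingleton →
      ∃ T : Closeds X, (T : Set X) ⊆ S ∧ IsIrreducible (T : Set X) ∧ topologicalKrullDim (T : Set X) = 1 by
    obtain ⟨T, hTS, hTi, hTd⟩ := h ⟨S, hS⟩ hirr hne
    let C := Scheme.IdealSheafData.vanishingIdeal T
    have hC : (C.support : Set X) = T := Scheme.IdealSheafData.coe_support_vanishingIdeal _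
    obtain ⟨ξ, hξ⟩ := QuasiSober.sober hTi T.isClosed
    have hT : T = Closeds.closure {ξ} := Closeds.ext hξ.def.symm
    refine ⟨C, ?_, by rw [hC]; exact hTd, by rw [hC]; exact hTS⟩
    subst hT
    exact QCoh.isIntegral_closure_point ξ
  intro S
  induction S using WellFoundedLT.induction with
  | ind S ih =>
    intro hi hn
    by_cases h : ∃ T : Set X, IsClosed T ∧ IsIrreducible T ∧ T ⊆ S ∧ T ≠ (S : Set X) ∧ ¬ T.Subsingleton
    · obtain ⟨T, hTc, hTi, hTS, hTne, hTn⟩ := h
      obtain ⟨T', h1, h2, h3⟩ := ih ⟨T, hTc⟩ (lt_of_le_of_ne hTS fun he => hTne (congrArg SetLike.coe he)) hTi hTn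
      exact ⟨T', h1.trans hTS, h2, h3⟩
    · push Not at h
      exact ⟨S, le_rfl, hi, topologicalKrullDim_one_of_minimal _ S.isClosed hi hn fun T a b c d => h T a b c d⟩

theorem exists_locus_of_globallyGenerated {L : X.Modules} (hL : PicF.IsInvertible L)
    (h : Curv2.IsGloballyGenerated L) (x : X) : ∃ t : Γ(L, ⊤), x ∈ H23.TrivBasic.locus t := by
  obtain ⟨ι, p, hp⟩ := h
  by_contra hcon
  push Not at hcon
  let j := X.fromSpecResidueField x
  let φ : L ⟶ (Scheme.Modules.pushforward j).obj ((Scheme.Modules.pullback j).obj L) :=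
    (Scheme.Modules.pullbackPushforwardAdjunction j).unit.app L
  have hj : ∀ z, j z = x := fun z => by
    have hz : j z ∈ Set.range j := ⟨z, rfl⟩
    rwa [Scheme.range_fromSpecResidueField] at hz
  have hiM := PicClLib.isInvertible_pullback j hL
  have hφ : p ≫ φ = 0 := by
    refine Sigma.hom_ext _ _ fun i => CurveRR.hom_ext_one ?_
    rw [comp_zero]
    let a : Γ(L, ⊤) := (Sigma.ι (fun _ : ι => Coh.structureModule X) i ≫ p).app ⊤ (H23.Frame.one ⊤)
    show (InvX.pullElt j a : Γ((Scheme.Modules.pullback j).obj L, j ⁻¹ᵁ ⊤)) = 0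
    refine AmpleX.eq_zero_of_locus_eq_bot hiM _ ?_
    rw [AmpleX.locus_pullElt hL, eq_bot_iff]
    intro z hz
    have hz' : x ∈ AmpleX.locus a := hj z ▸ hz
    obtain ⟨V, ⟨hV, hfrV⟩, hxV⟩ := Opens.mem_sSup.1 hz'
    exact hcon a (H23.TrivBasic.mem_locus_iff.2 ⟨V, hxV, hfrV⟩)
  have hφ0 : φ = 0 := by rw [← cancel_epi p, hφ, comp_zero]
  obtain ⟨U, hxU, e, he⟩ := InvX.exists_frame hL x
  have hfr := InvX.isFrame_pullElt j he
  have he0 : InvX.pullElt j e = 0 := by
    show φ.app U e = 0
    rw [hφ0]
    rfl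
  have h01 : (1 : Γ(Spec (X.residueField x), j ⁻¹ᵁ U)) = 0 := by
    refine (hfr _ le_rfl).1 ?_
    simp only [AModX.res_self, he0, smul_zero]
  obtain ⟨z⟩ : Nonempty (Spec (X.residueField x)) := inferInstance
  have hz : z ∈ j ⁻¹ᵁ U := by
    show j z ∈ U
    rw [hj]; exact hxU
  rw [← Scheme.basicOpen_of_isUnit (Spec (X.residueField x)) (U := j ⁻¹ᵁ U) isUnit_one, h01,
    Scheme.basicOpen_zero] at hz
  exact hz

variable (k : Type u) [Field k]

theorem euler_push [X.Over (Spec (CommRingCat.of k))] [Z.Over (Spec (CommRingCat.of k))] (i : Z ⟶ X)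
    [IsAffineHom i] (hi : i ≫ (X ↘ Spec (CommRingCat.of k)) = Z ↘ Spec (CommRingCat.of k)) {M : Z.Modules}
    (hM : Coh.IsQCoh M) : Curv2.euler k X ((Coh.push i).obj M) = Curv2.euler k Z M := by
  unfold Curv2.euler
  refine finsum_congr fun n => ?_
  obtain ⟨e⟩ := PnCoh.exists_linearEquiv_push k i hi hM n
  rw [e.finrank_eq]

variable [X.Over (Spec (CommRingCat.of k))]

/-- The intersection number with a closed subscheme is the degree of the restriction. -/
theorem euler_sub_eq_deg [IsProper (X ↘ Spec (CommRingCat.of k))] (C : X.IdealSheafData) {L : X.Modules} (hL : PicF.IsInvertible L) :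
    Curv2.euler k X (CohB1.tensorMod (ClSub.quotMod C) L) - Curv2.euler k X (ClSub.quotMod C) =
      @Curv2.deg k _ C.subscheme ⟨C.subschemeι ≫ (X ↘ Spec (CommRingCat.of k))⟩
        ((Scheme.Modules.pullback C.subschemeι).obj L) 1 := by
  letI : C.subscheme.Over (Spec (CommRingCat.of k)) := ⟨C.subschemeι ≫ (X ↘ Spec (CommRingCat.of k))⟩
  let L' := (Scheme.Modules.pullback C.subschemeι).obj L
  have hL' : PicF.IsInvertible L' := PicClLib.isInvertible_pullback _ hL
  obtain ⟨e⟩ := push_tensor_iso C.subschemeι hL (Coh.structureModule C.subscheme)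
  obtain ⟨φ⟩ : Nonempty (CohB1.tensorMod (Coh.structureModule C.subscheme) L' ≅ L') := cl_eq_iff.1 (by
    rw [cl_tensor, ← H23.PicMul.one_def, one_mul])
  rw [Euler.euler_congr k (e ≪≫ (Coh.push C.subschemeι).mapIso φ),
    euler_push k C.subschemeι rfl (ProjUPX.isQCoh_of_isInvertible hL'),
    euler_push k C.subschemeι rfl QCoh.isQCoh_structureModule]
  simp [Curv2.deg, L']

/-- A globally generated invertible module which is nonzero in degree on every curve is ample. -/
theorem isAmple_of_generated_of_curves [IsProper (X ↘ Spec (CommRingCat.of k))] {L : X.Modules}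
    (hL : PicF.IsInvertible L) (hgen : Curv2.IsGloballyGenerated L)
    (hC : ∀ C : X.IdealSheafData, IsIntegral C.subscheme → topologicalKrullDim (C.support : Set X) = 1 →
      ¬ H23.TrivBasic.Triv ((Scheme.Modules.pullback C.subschemeι).obj L)) : CohB1.IsAmple L := by
  haveI := CurveCohLib.isNoetherian_of_proper (k := k) (X := X)
  refine AVAmple.isAmple_of_nontriv (X ↘ Spec (CommRingCat.of k)) hL
    (exists_locus_of_globallyGenerated hL hgen) fun {W} j hj hW hT => ?_
  haveI := hj
  haveI := hW
  by_cases hs : (Set.range j).Subsingleton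
  · haveI : Subsingleton W := ⟨fun a b => j.isClosedEmbedding.injective (hs ⟨a, rfl⟩ ⟨b, rfl⟩)⟩
    exact Finite.of_subsingleton
  · have hirr : IsIrreducible (Set.range j) := by
      rw [← Set.image_univ]
      exact (IrreducibleSpace.isIrreducible_univ W).image j j.continuous.continuousOn
    obtain ⟨C, hCi, hCd, hCs⟩ := exists_curve _ j.isClosedEmbedding.isClosed_range hirr hs
    haveI := hCi
    obtain ⟨g, hg⟩ := H23.RedSub.exists_lift_closed C.subschemeι j
      (by rw [Scheme.IdealSheafData.range_subschemeι]; exact hCs)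
    refine absurd ?_ (hC C hCi hCd)
    exact (H23.TrivBasic.triv_congr hg).1 ((H23.TrivBasic.triv_comp_iff g j).1 (hT.pullback g))

end Groth.Agent.AmpleDev
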