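import Groth.Agent.AmpleDev.Basic
import Groth.Agent.CurveVA.Vanish
import Groth.Agent.S18840
import Groth.Agent.S0047

/-!
# Invertible modules of positive degree on integral proper curves are ample
-/

set_option linter.style.haveILetI false
set_option backward.isDefEq.respectTransparency false
set_option backward.isDefEq.respectTransparency.types false

universe u

open CategoryTheory CategoryTheory.Limits AlgebraicGeometry TopologicalSpace Opposite
open Groth.Agent.H23.PicMul

namespace Groth.Agent.AmpleDev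

open Groth.Agent

variable {X : Scheme.{u}} (k : Type u) [Field k] [X.Over (Spec (CommRingCat.of k))] [IsIntegral X]
  [IsProper (X ↘ Spec (CommRingCat.of k))]

include k in
theorem isAmple_of_deg_pos (hdim : topologicalKrullDim X = 1) {L : X.Modules} (hL : PicF.IsInvertible L)
    (hdeg : 0 < Curv2.deg k X L 1) : CohB1.IsAmple L := by
  haveI := CurveCohLib.isNoetherian_of_proper (k := k) (X := X)
  refine AmpleVan.isAmple_of_HH_one hL fun Z _ => ?_
  let I := (QCoh.vanIdeal Z).toModules
  have hI : Coh.IsCoh I := QCoh.isCoh_of_mono (QCoh.vanIdeal Z).ι QCoh.isCoh_structureModule'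
    (QCoh.isQCoh_vanIdeal Z)
  let n : ℕ := ((Curv2.genus k X : ℤ) - Curv2.euler k X I).toNat
  obtain ⟨hPi, hPd⟩ := S18840.deg_tensorPow k hdim hL (n + 1)
  let P := CohB1.tensorPow L (n + 1)
  let T := (DCoh.tensorBi.obj P).obj I
  have hPf : FlatMod.IsFinLocFree P := H23.PullPush.isFinLocFree_of_isInvertible hPi
  have hT : Coh.IsCoh T := CurveTensor.isCoh_tensor hPf hI
  obtain ⟨e⟩ : Nonempty (T ≅ CohB1.tensorMod I P) := cl_eq_iff.1 (by
    show PicF.cl (CohB1.tensorMod P I) = _
    rw [cl_tensor, cl_tensor, mul_comm])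
  refine ⟨n, QCoh.subsingleton_HH_of_iso e 1 ?_⟩
  by_cases hη : genericPoint X ∈ CohB1.support I
  · have hχ : (Curv2.genus k X : ℤ) ≤ Curv2.euler k X T := by
      have h := CurveTensor.euler_tensor k hdim (InvEnd.isFinLocFreeOfRank_one hPi) hI
      rw [hPd] at h
      haveI : Nontrivial (I.presheaf.stalk (genericPoint X)) := not_subsingleton_iff_nontrivial.1 hη
      letI := (CurveBundle.isField_stalk_generic (X := X)).toField
      haveI := QCoh.finite_stalk_of_isFT hI.1 hI.2 (genericPoint X)
      have hr : 1 ≤ CurveBundle.rk I := Module.finrank_pos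
      refine le_trans ?_ h.ge
      have h1 : ((Curv2.genus k X : ℤ) - Curv2.euler k X I) ≤ (n : ℤ) := Int.self_le_toNat _
      have h2 : ((n + 1 : ℕ) : ℤ) ≤ (CurveBundle.rk I : ℤ) * (((n + 1 : ℕ) : ℤ) * Curv2.deg k X L 1) := by
        have := mul_le_mul (Int.toNat_of_nonneg (show (0:ℤ) ≤ CurveBundle.rk I by positivity) ▸
          (by exact_mod_cast hr : (1 : ℤ) ≤ (CurveBundle.rk I : ℤ)))
          (le_mul_of_one_le_right (by positivity : (0:ℤ) ≤ ((n + 1 : ℕ) : ℤ)) hdeg)
          (by positivity) (by positivity)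
        simpa using this
      push_cast at h2 ⊢
      linarith
    haveI : (AmpleVan.tw P).IsEquivalence := AmpleVan.isEquivalence_tw hPi
    obtain ⟨φ⟩ : Nonempty (CohB1.tensorMod (Coh.structureModule X) P ≅ P) := cl_eq_iff.1 (by
      rw [cl_tensor, ← H23.PicMul.one_def, one_mul])
    let j : T ⟶ P := e.hom ≫ (AmpleVan.tw P).map (QCoh.vanIdeal Z).ι ≫ φ.hom
    haveI : Mono ((AmpleVan.tw P).map (QCoh.vanIdeal Z).ι) := Functor.map_mono _ _
    haveI : Mono j := mono_comp _ _
    exact CurveVA.subsingleton_h1 k hdim hPi j hT hχ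
  · refine S0047.result X T hT (fun x hx => ?_) 1 one_pos
    by_contra hxc
    exact hη (CurveCohLib.eq_genericPoint_of_not_isClosed hdim hxc ▸ CurveTensor.support_tensor_subset hx)

end Groth.Agent.AmpleDev
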