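import Groth.Agent.AmpleDev.Basic
import Groth.Agent.ChevAffine.Main

/-!
# Dévissage along a finite surjection
-/

set_option autoImplicit false
set_option linter.style.haveILetI false
set_option backward.isDefEq.respectTransparency.types false

universe u

open CategoryTheory CategoryTheory.Limits AlgebraicGeometry TopologicalSpace Opposite
open Groth.Agent.QCoh

namespace Groth.Agent.AmpleDev

open Groth.Agent Groth.Agent.ChevAffine

variable {X Y : Scheme.{u}}

/-- For an ideal sheaf `J` not passing through `ξ`, the submodule `J G` of a push forward is again a push forward. -/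
theorem exists_idealMul_push (f : Y ⟶ X) [IsAffineHom f] (ξ : X) {M : Y.Modules}
    (hM : Coh.IsQCoh M) (J : X.IdealSheafData) (hJ : ξ ∉ (J.support : Set X)) :
    ∃ (G' : X.Modules) (l : G' ⟶ (Coh.push f).obj M), Mono l ∧ Coh.IsQCoh G' ∧
      (∃ (K : Y.Modules) (k : K ⟶ M), Mono k ∧ Coh.IsQCoh K ∧ Nonempty (G' ≅ (Coh.push f).obj K)) ∧
      l ≫ (Scheme.Modules.pullbackPushforwardAdjunction J.subschemeι).unit.app ((Coh.push f).obj M) = 0 ∧
      Function.Surjective ((TopCat.Presheaf.stalkFunctor _ ξ).map l.mapPresheaf) := by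
  let J' := J.comap f
  let v := (Scheme.Modules.pullbackPushforwardAdjunction J'.subschemeι).unit.app M
  have hpb : Coh.IsQCoh ((Scheme.Modules.pullback J'.subschemeι).obj M) := isQCoh_pullback _ hM
  have hK : Coh.IsQCoh (kernel v) := isQCoh_kernel hM (isQCoh_pushforward J'.subschemeι hpb) v
  let l := (Coh.push f).map (kernel.ι v)
  have hG : Coh.IsQCoh ((Coh.push f).obj M) := isQCoh_pushforward f hM
  have hideal : ∀ U : X.affineOpens, J'.ideal ⟨f ⁻¹ᵁ U.1, U.2.preimage f⟩ = (J.ideal U).map (f.app U.1).hom :=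
    fun U => by
      rw [ModPairLib.ideal_comap J f U ⟨f ⁻¹ᵁ U.1, U.2.preimage f⟩ le_rfl, ← Scheme.Hom.app_eq_appLE]
  refine ⟨(Coh.push f).obj (kernel v), l, Functor.map_mono _ _, isQCoh_pushforward f hK, ?_, ?_, ?_⟩
  · exact ⟨kernel v, kernel.ι v, inferInstance, hK, ⟨Iso.refl _⟩⟩
  · refine hom_eq_zero_of_affine _ fun U hU x => ?_
    refine ((unit_app_closed J.subschemeι hG hU).2 (l.app U x)).2 ?_
    rw [Scheme.IdealSheafData.ker_subschemeι]
    have h0 : v.app (f ⁻¹ᵁ U) ((kernel.ι v).app (f ⁻¹ᵁ U) x) = 0 :=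
      congr(($(kernel.condition v)).app (f ⁻¹ᵁ U) x)
    have h1 := ((unit_app_closed J'.subschemeι hM (hU.preimage f)).2 _).1 h0
    rw [Scheme.IdealSheafData.ker_subschemeι, hideal ⟨U, hU⟩] at h1
    refine Submodule.smul_induction_on (p := fun (z : Γ(M, f ⁻¹ᵁ U)) =>
      (show Γ((Coh.push f).obj M, U) from z) ∈ J.ideal ⟨U, hU⟩ • (⊤ : Submodule Γ(X, U) Γ((Coh.push f).obj M, U)))
      h1 (fun b hb m _ => ?_) fun z z' hz hz' => add_mem hz hz'
    refine Submodule.span_induction
      (p := fun b _ => ∀ m : Γ(M, f ⁻¹ᵁ U), (show Γ((Coh.push f).obj M, U) from (show Γ(M, f ⁻¹ᵁ U) from b • m)) ∈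
        J.ideal ⟨U, hU⟩ • (⊤ : Submodule Γ(X, U) Γ((Coh.push f).obj M, U))) ?_ ?_ ?_ ?_ hb m
    · rintro _ ⟨a, ha, rfl⟩ m
      exact Submodule.smul_mem_smul ha (Submodule.mem_top (x := (show Γ((Coh.push f).obj M, U) from m)))
    · intro m; rw [zero_smul]; exact zero_mem _
    · intro b b' _ _ hb hb' m; rw [add_smul]; exact add_mem (hb m) (hb' m)
    · intro c b _ hb m
      rw [smul_eq_mul, mul_comm, mul_smul]
      exact hb (c • m)
  · intro z
    obtain ⟨U₀, hξ₀, y, rfl⟩ := TopCat.Presheaf.exists_germ_eq ((Coh.push f).obj M).presheaf z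
    obtain ⟨_, ⟨U, hU, rfl⟩, hξU, hUsub⟩ := X.isBasis_affineOpens.exists_subset_of_mem_open
      (show ξ ∈ ((U₀ : Set X) ∩ (J.support : Set X)ᶜ) from ⟨hξ₀, hJ⟩)
      (U₀.2.inter J.support.2.isOpen_compl)
    have hle : U ≤ U₀ := fun x hx => (hUsub hx).1
    have hzero : X.zeroLocus (U := U) (J.ideal ⟨U, hU⟩) ∩ U = ∅ := by
      rw [← Scheme.IdealSheafData.coe_support_inter J ⟨U, hU⟩]
      exact Set.eq_empty_of_forall_notMem fun x hx => (hUsub hx.2).2 hx.1
    have htop : J.ideal ⟨U, hU⟩ = ⊤ := by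
      rw [← Ideal.span_eq (J.ideal ⟨U, hU⟩), ← hU.iSup_basicOpen_eq_self_iff]
      refine le_antisymm (iSup_le fun g => X.basicOpen_le _) fun x hx => ?_
      by_contra hne
      refine (Set.eq_empty_iff_forall_notMem.1 hzero x) ⟨(Scheme.mem_zeroLocus_iff _ _ _).2 fun g hg hxg => hne ?_, hx⟩
      exact Opens.mem_iSup.2 ⟨⟨g, hg⟩, hxg⟩
    let y' : Γ(M, f ⁻¹ᵁ U) := ((Coh.push f).obj M).presheaf.map (homOfLE hle).op y
    have hy' : v.app (f ⁻¹ᵁ U) y' = 0 := by
      refine ((unit_app_closed J'.subschemeι hM (hU.preimage f)).2 _).2 ?_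
      rw [Scheme.IdealSheafData.ker_subschemeι, hideal ⟨U, hU⟩, htop, Ideal.map_top, Submodule.top_smul]
      trivial
    obtain ⟨x, hx⟩ := exists_app_f_eq
      (S := ShortComplex.mk (kernel.ι v) (Abelian.coimage.π v) (cokernel.condition _))
      (.mk' (ShortComplex.exact_of_g_is_cokernel _ (cokernelIsCokernel _)) inferInstance inferInstance)
      (f ⁻¹ᵁ U) y' (app_injective (Abelian.factorThruCoimage v) (f ⁻¹ᵁ U) (by
        rw [map_zero]
        exact (congr(($(Abelian.coimage.fac v)).app (f ⁻¹ᵁ U) y') : _).trans hy'))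
    refine ⟨((Coh.push f).obj (kernel v)).presheaf.germ U ξ hξU x, ?_⟩
    rw [TopCat.Presheaf.stalkFunctor_map_germ_apply]
    refine Eq.trans ?_ (((Coh.push f).obj M).presheaf.germ_res_apply (homOfLE hle) ξ hξU y)
    exact congrArg _ hx

/-- A property stable under extensions and retracts holds for all coherent modules as soon as it holds
for the push forwards along a finite surjection. -/
theorem devissage_finite (f : Y ⟶ X) [IsFinite f] [Surjective f] [IsNoetherian X] (P : X.Modules → Prop)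
    (hiso : ∀ M N : X.Modules, Nonempty (M ≅ N) → P M → P N) (hzero : ∀ M : X.Modules, IsZero M → P M)
    (hext : ∀ S : ShortComplex X.Modules, S.ShortExact → P S.X₁ → P S.X₃ → P S.X₂)
    (hretr : ∀ {M N : X.Modules} (s : M ⟶ N) (r : N ⟶ M), s ≫ r = 𝟙 M → P N → P M)
    (hpush : ∀ G : Y.Modules, Coh.IsCoh G → P ((Coh.push f).obj G))
    {M : X.Modules} (hM : Coh.IsCoh M) : P M := by
  haveI := hasFiniteBiproducts X
  refine devissage_ideals P hiso hzero Set.univ (fun S hS _ _ _ => hext S hS) ?_ hM (Set.subset_univ _)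
  intro y _ hsmall Z i _ _ hr I ι hι hI hI0
  haveI := hι
  haveI : IsNoetherian Z :=
    { __ := LocallyOfFiniteType.isLocallyNoetherian i
      __ := QuasiCompact.compactSpace_of_compactSpace i }
  let q : pullback f i ⟶ Z := pullback.snd f i
  haveI : IsFinite q := MorphismProperty.pullback_snd (P := (@IsFinite : MorphismProperty Scheme.{u})) _ _ ‹_›
  haveI : Surjective q := MorphismProperty.pullback_snd (P := (@Surjective : MorphismProperty Scheme.{u})) _ _ ‹_›
  haveI : IsLocallyNoetherian (pullback f i) := LocallyOfFiniteType.isLocallyNoetherian (q ≫ i)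
  have hGc : Coh.IsCoh ((Coh.push (q ≫ i)).obj (Coh.structureModule (pullback f i))) :=
    isCoh_pushforward_finite (q ≫ i) isCoh_structureModule'
  have hIc : Coh.IsCoh I := isCoh_of_mono ι isCoh_structureModule' hI
  obtain ⟨r, hr0, J, u, hJ, hu, hmain⟩ := exists_ideal_mul hGc i
    (mem_support_push_structure i q) (fun a ha m => smul_eq_zero_of_mem_maximalIdeal i q a ha m) ι hIc hI0
  obtain ⟨G', l, hl, hG', hG'H, hlu, hls⟩ :=
    AmpleDev.exists_idealMul_push (q ≫ i) (i (genericPoint Z)) isQCoh_structureModule J hJ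
  haveI := hl
  obtain ⟨t, ht, hc⟩ := hmain G' l hl hG' (by rw [hu]; exact hlu) hls
  haveI := ht
  have hS := isCoh_biproduct (fun _ : ULift.{u} (Fin r) => (Coh.push i).obj I) fun _ => isCoh_push i hIc
  have hC := isCoh_cokernel hG' hS t
  have hsum : P (⨁ fun _ : ULift.{u} (Fin r) => (Coh.push i).obj I) := by
    obtain ⟨K, k, hk, hK, ⟨eK⟩⟩ := hG'H
    haveI := hk
    have hKc : Coh.IsCoh K := isCoh_of_mono k isCoh_structureModule' hK
    haveI : IsNoetherian Y :=
      { __ := LocallyOfFiniteType.isLocallyNoetherian f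
        __ := QuasiCompact.compactSpace_of_compactSpace f }
    haveI : IsFinite (pullback.fst f i) :=
      MorphismProperty.pullback_fst (P := (@IsFinite : MorphismProperty Scheme.{u})) _ _ inferInstance
    have hPG : P G' := hiso _ _ ⟨(eK ≪≫ (Scheme.Modules.pushforwardCongr
        (show q ≫ i = pullback.fst f i ≫ f from (pullback.condition).symm)).app K ≪≫
        ((Scheme.Modules.pushforwardComp (pullback.fst f i) f).app K).symm).symm⟩
      (hpush _ (isCoh_pushforward_finite (pullback.fst f i) hKc))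
    refine hext (ShortComplex.mk t (cokernel.π t) (cokernel.condition t))
      (.mk' (ShortComplex.exact_of_g_is_cokernel _ (cokernelIsCokernel t)) ht inferInstance) hPG
      (hsmall _ hC ?_ ?_)
    · refine (support_of_epi hS.1 hC.1 (cokernel.π t)).trans fun x hx => ?_
      by_contra hx'
      obtain ⟨W, hW, hxW⟩ := exists_affine_mem x
      refine ((notMem_support_iff hS.1 hW hxW).2 fun m => ?_) hx
      have hAx := (notMem_support_iff (isCoh_push i hIc).1 hW hxW).1
        (fun h => hx' (hr.le (support_push_subset i hI h)))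
      choose g hg hg0 using fun k => hAx
        ((biproduct.π (fun _ : ULift.{u} (Fin r) => (Coh.push i).obj I) k).app W m)
      refine ⟨∏ k, g k, ?_, ?_⟩
      · rw [X.mem_basicOpen _ x hxW, map_prod]
        exact IsUnit.prod_univ_iff.2 fun k => (X.mem_basicOpen (g k) x hxW).1 (hg k)
      · rw [biproduct_app_decomp _ W m, Finset.smul_sum]
        refine Finset.sum_eq_zero fun k _ => ?_
        classical
        rw [← Scheme.Modules.Hom.app_smul, ← Finset.mul_prod_erase _ g (Finset.mem_univ k), mul_comm,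
          mul_smul, hg0 k, smul_zero, map_zero]
    · have hy : i (genericPoint Z) = y :=
        (inseparable_iff_closure_eq.2 ((range_eq_closure i).symm.trans hr)).eq
      exact hy ▸ hc
  exact hretr (biproduct.ι (fun _ : ULift.{u} (Fin r) => (Coh.push i).obj I) ⟨⟨0, hr0⟩⟩)
    (biproduct.π (fun _ : ULift.{u} (Fin r) => (Coh.push i).obj I) ⟨⟨0, hr0⟩⟩)
    (biproduct.ι_π_self _ _) hsum

end Groth.Agent.AmpleDev
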