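import Groth.Agent.AmpleDev.CurvesIn
import Groth.Agent.AmpleX.Generated

/-!
# Strict nefness
-/

set_option linter.style.haveILetI false
set_option backward.isDefEq.respectTransparency false
set_option backward.isDefEq.respectTransparency.types false

universe u

open CategoryTheory CategoryTheory.Limits AlgebraicGeometry TopologicalSpace Opposite
open Groth.Agent.H23.PicMul

namespace Groth.Agent.AmpleDev

open Groth.Agent

variable {X : Scheme.{u}} (k : Type u) [Field k] [X.Over (Spec (CommRingCat.of k))]
  [IsProper (X ↘ Spec (CommRingCat.of k))]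

include k

theorem dim_subscheme (C : X.IdealSheafData) :
    topologicalKrullDim C.subscheme = topologicalKrullDim (C.support : Set X) :=
  dim_eq_one_of_closedImmersion C.subschemeι C.range_subschemeι

theorem deg_pos_on_curve {L : X.Modules} (hL : CohB1.IsAmple L) (C : X.IdealSheafData) [IsIntegral C.subscheme]
    (hC : topologicalKrullDim (C.support : Set X) = 1) :
    0 < @Curv2.deg k _ C.subscheme ⟨C.subschemeι ≫ (X ↘ Spec (CommRingCat.of k))⟩
      ((Scheme.Modules.pullback C.subschemeι).obj L) 1 := by
  letI : C.subscheme.Over (Spec (CommRingCat.of k)) := ⟨C.subschemeι ≫ (X ↘ Spec (CommRingCat.of k))⟩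
  haveI : IsProper (C.subscheme ↘ Spec (CommRingCat.of k)) :=
    inferInstanceAs (IsProper (C.subschemeι ≫ (X ↘ Spec (CommRingCat.of k))))
  exact S18840.deg_pos_of_ample k ((dim_subscheme k C).trans hC) (isAmple_pullback_finite k C.subschemeι hL)

theorem not_triv_of_ample_on_curve {L : X.Modules} (C : X.IdealSheafData) [IsIntegral C.subscheme]
    (hC : topologicalKrullDim (C.support : Set X) = 1)
    (h : CohB1.IsAmple ((Scheme.Modules.pullback C.subschemeι).obj L)) :
    ¬ H23.TrivBasic.Triv ((Scheme.Modules.pullback C.subschemeι).obj L) := fun ⟨φ⟩ => by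
  letI : C.subscheme.Over (Spec (CommRingCat.of k)) := ⟨C.subschemeι ≫ (X ↘ Spec (CommRingCat.of k))⟩
  haveI : IsProper (C.subscheme ↘ Spec (CommRingCat.of k)) :=
    inferInstanceAs (IsProper (C.subschemeι ≫ (X ↘ Spec (CommRingCat.of k))))
  have h1 := S18840.deg_pos_of_ample k ((dim_subscheme k C).trans hC) h
  rw [CurveRR.deg_congr k φ 1, CurveDeg.deg_structureModule] at h1
  exact lt_irrefl _ h1

theorem isAmple_of_curves_ample {L : X.Modules} (hL : PicF.IsInvertible L) (hgen : Curv2.IsGloballyGenerated L)
    (h : ∀ C : X.IdealSheafData, IsIntegral C.subscheme → topologicalKrullDim (C.support : Set X) = 1 →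
      CohB1.IsAmple ((Scheme.Modules.pullback C.subschemeι).obj L)) : CohB1.IsAmple L :=
  isAmple_of_generated_of_curves k hL hgen fun C hC hd => by
    haveI := hC
    exact not_triv_of_ample_on_curve k C hd (h C hC hd)

/-- Ampleness on a scheme of dimension at most one is positivity of the degrees on the curves. -/
theorem isAmple_of_deg_pos_components [IsNoetherian X] (hdim : topologicalKrullDim X ≤ 1) {L : X.Modules}
    (hL : PicF.IsInvertible L)
    (h : ∀ (C : Set X) (hC : C ∈ irreducibleComponents (X : Type u)), topologicalKrullDim C = 1 →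
      0 < @Curv2.deg k _ (X.irreducibleComponentIdeal C hC).radical.subscheme
        ⟨(X.irreducibleComponentIdeal C hC).radical.subschemeι ≫ (X ↘ Spec (CommRingCat.of k))⟩
        ((Scheme.Modules.pullback (X.irreducibleComponentIdeal C hC).radical.subschemeι).obj L) 1) :
    CohB1.IsAmple L := by
  refine isAmple_of_integral k hL fun W i hi hW => ?_
  haveI := hi
  haveI := hW
  letI : W.Over (Spec (CommRingCat.of k)) := ⟨i ≫ (X ↘ Spec (CommRingCat.of k))⟩
  haveI : IsProper (W ↘ Spec (CommRingCat.of k)) := inferInstanceAs (IsProper (i ≫ (X ↘ Spec (CommRingCat.of k))))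
  haveI := CurveCohLib.isNoetherian_of_proper (k := k) (X := W)
  by_cases hs : (Set.range i).Subsingleton
  · haveI : Subsingleton W := ⟨fun a b => i.isClosedEmbedding.injective (hs ⟨a, rfl⟩ ⟨b, rfl⟩)⟩
    refine isAmple_of_van (PicClLib.isInvertible_pullback i hL) fun M hM => ⟨0, fun n _ => ?_⟩
    exact S0047.result W _ (AmpleVan.isCoh_tensor hM (AmpleVan.isCoh_invertible
      (InvX.isInvertible_tensorPow (PicClLib.isInvertible_pullback i hL) n)))
      (fun x _ => by rw [show ({x} : Set W) = Set.univ from Set.eq_univ_of_forall fun y => Subsingleton.elim y x]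
                     exact isClosed_univ) 1 one_pos
  · have hirr : IsIrreducible (Set.range i) := by
      rw [← Set.image_univ]
      exact (IrreducibleSpace.isIrreducible_univ W).image i i.continuous.continuousOn
    obtain ⟨C, hC, hsub⟩ := exists_mem_irreducibleComponents_subset_of_isIrreducible _ hirr
    let I := (X.irreducibleComponentIdeal C hC).radical
    have hI : (I.support : Set X) = C := rfl
    obtain ⟨ξ, hξ⟩ := QuasiSober.sober hC.1 (isClosed_of_mem_irreducibleComponents _ hC)
    have hIv : I = Scheme.IdealSheafData.vanishingIdeal (Closeds.closure {ξ}) := by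
      show (X.irreducibleComponentIdeal C hC).radical = _
      rw [← Scheme.IdealSheafData.vanishingIdeal_support]
      exact congrArg _ (Closeds.ext hξ.def.symm)
    haveI : IsIntegral I.subscheme := hIv ▸ QCoh.isIntegral_closure_point ξ
    letI : I.subscheme.Over (Spec (CommRingCat.of k)) := ⟨I.subschemeι ≫ (X ↘ Spec (CommRingCat.of k))⟩
    haveI : IsProper (I.subscheme ↘ Spec (CommRingCat.of k)) :=
      inferInstanceAs (IsProper (I.subschemeι ≫ (X ↘ Spec (CommRingCat.of k))))
    have hC1 : topologicalKrullDim C = 1 := by
      refine le_antisymm ((topologicalKrullDim_subspace_le X C).trans hdim) ?_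
      obtain ⟨D, -, hDd, hDs⟩ := exists_curve _ i.isClosedEmbedding.isClosed_range hirr hs
      rw [← hDd]
      exact (Topology.IsEmbedding.inclusion (hDs.trans hsub)).isInducing.topologicalKrullDim_le
    exact isAmple_pullback_of_range_subset k i I.subschemeι (by rw [I.range_subschemeι]; exact hsub)
      (isAmple_of_deg_pos k ((dim_subscheme k I).trans hC1) (PicClLib.isInvertible_pullback _ hL) (h C hC hC1))

end Groth.Agent.AmpleDev
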